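import Cfsg.Agent.H59.EP.UB
import Cfsg.Agent.H419.EP.Soc

/-!
# S3499-V, sporadic socles: the uniform upper bound for `|Q|` (helper805)

* `UBThree` : the bound with three generators (helper762, `H762/EPV/UBThree`), as a statement;
* `cardA` : `|A| = |L|` or `|A| = 2 |L|` when `|Out L| ≤ 2`;
* `card_le` : the upper bound for `|Q|`, from the factorisation of `|L|`.
-/

set_option autoImplicit false

namespace Cfsg.Agent.H805.EPT

open Subgroup Cfsg.Agent.H284 Cfsg.Agent.H419.EP Cfsg.Agent.H59.EP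

/-- the index bound with three generators -/
def UBThree : Prop := ∀ {Q : Type} [Group Q] [Finite Q] {A : Subgroup Q} {Γ : Subgroup (MulAut Q)}, IsSimpleGroup Q →
  EPT A Γ →
  (∀ K : Subgroup Q, K ≤ A → (∀ a ∈ A, ∀ k ∈ K, a * k * a⁻¹ ∈ K) → (∀ a ∈ K, ∀ b ∈ K, a * b = b * a) → K = ⊥) →
  ∀ l : List (ℕ × ℕ), (∀ x ∈ l, x.1.Prime ∧ 0 < x.2) → (l.map Prod.fst).Nodup →
  Nat.card A = (l.map fun x => x.1 ^ x.2).prod →
  A.index ≤ 1 + ((l.map fun x => gal x.1 x.2).sum * (Nat.card A / 6) + Nat.card A ^ 2 / 60 + Nat.card A ^ 3 / 3600) *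
    (2 * (Nat.card A / 6))

/-- the numerical bound -/
def ubl (l : List (ℕ × ℕ)) : ℕ :=
  (l.map fun x => x.1 ^ x.2).prod *
    (1 + ((l.map fun x => gal x.1 x.2).sum * ((l.map fun x => x.1 ^ x.2).prod / 6) +
      (l.map fun x => x.1 ^ x.2).prod ^ 2 / 60 + (l.map fun x => x.1 ^ x.2).prod ^ 3 / 3600) *
      (2 * ((l.map fun x => x.1 ^ x.2).prod / 6)))

theorem noncomm {L : Type*} [Group L] [Finite L] (hsim : IsSimpleGroup L) (hp : ¬ (Nat.card L).Prime) :
    ¬ ∀ a b : L, a * b = b * a := by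
  intro hcomm
  apply hp
  letI : CommGroup L := { (inferInstance : Group L) with mul_comm := hcomm }
  exact IsSimpleGroup.prime_card

theorem cardMulAut {L : Type*} [Group L] [Finite L] (hsim : IsSimpleGroup L) (hp : ¬ (Nat.card L).Prime)
    (hidx : (MulAut.conj : L →* MulAut L).range.index ≤ 2) :
    Nat.card (MulAut L) = Nat.card L ∨ Nat.card (MulAut L) = 2 * Nat.card L := by
  have hinj : Function.Injective (MulAut.conj : L →* MulAut L) := by
    rw [← MonoidHom.ker_eq_bot_iff]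
    rcases (MulAut.conj : L →* MulAut L).normal_ker.eq_bot_or_eq_top with h1 | h1
    · exact h1
    · exfalso
      apply noncomm hsim hp
      intro a b
      have h2 : a ∈ (MulAut.conj : L →* MulAut L).ker := by rw [h1]; trivial
      have h3 := DFunLike.congr_fun (MonoidHom.mem_ker.1 h2) b
      rw [MulAut.conj_apply, MulAut.one_apply, mul_inv_eq_iff_eq_mul] at h3
      exact h3
  have h4 := Subgroup.card_mul_index (MulAut.conj : L →* MulAut L).range
  rw [Nat.card_congr (MonoidHom.ofInjective hinj).toEquiv.symm] at h4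
  have h5 : (MulAut.conj : L →* MulAut L).range.index ≠ 0 := Subgroup.index_ne_zero_of_finite
  rw [← h4]
  rcases (by omega : (MulAut.conj : L →* MulAut L).range.index = 1 ∨ (MulAut.conj : L →* MulAut L).range.index = 2)
    with h | h
  · left; rw [h, mul_one]
  · right; rw [h, mul_comm]

/-- `|A| = |L|` or `2 |L|` -/
theorem cardA {Q : Type*} [Group Q] [Finite Q] {A : Subgroup Q} {L : Type*} [Group L] [Finite L]
    (hsoc : HasSoc A L) (hsim : IsSimpleGroup L) (hp : ¬ (Nat.card L).Prime)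
    (hidx : (MulAut.conj : L →* MulAut L).range.index ≤ 2) : Nat.card A = Nat.card L ∨ Nat.card A = 2 * Nat.card L := by
  obtain ⟨c, hc⟩ := hsoc.card_dvd
  have h1 := hsoc.card_le
  have h2 : Nat.card (MulAut L) ≤ 2 * Nat.card L := by
    rcases cardMulAut hsim hp hidx with h | h <;> omega
  have hL : 0 < Nat.card L := Nat.card_pos
  have hA : 0 < Nat.card A := Nat.card_pos
  have h3 : c ≤ 2 := by
    by_contra hc3
    have h4 : Nat.card L * 3 ≤ Nat.card L * c := Nat.mul_le_mul_left _ (by omega)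
    omega
  interval_cases c
  · omega
  · left; omega
  · right; omega

variable {Q : Type} [Group Q] [Finite Q] {A : Subgroup Q} {Γ : Subgroup (MulAut Q)}

theorem card_le_of_list (hub : UBThree) (hs : IsSimpleGroup Q) (h : EPT A Γ)
    (hab : ∀ K : Subgroup Q, K ≤ A → (∀ a ∈ A, ∀ k ∈ K, a * k * a⁻¹ ∈ K) → (∀ a ∈ K, ∀ b ∈ K, a * b = b * a) → K = ⊥)
    (l : List (ℕ × ℕ)) (h1 : ∀ x ∈ l, x.1.Prime ∧ 0 < x.2) (h2 : (l.map Prod.fst).Nodup)
    (hc : Nat.card A = (l.map fun x => x.1 ^ x.2).prod) : Nat.card Q ≤ ubl l := by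
  have h3 := hub hs h hab l h1 h2 hc
  rw [← A.card_mul_index]
  rw [hc] at h3 ⊢
  exact Nat.mul_le_mul_left _ h3

/-- **The upper bound**, socle `L` with `|Out L| ≤ 2`, `|L| = 2 ^ a * ∏ p ^ e`. -/
theorem card_le (hub : UBThree) (hs : IsSimpleGroup Q) (h : EPT A Γ) {L : Type*} [Group L] [Finite L]
    (hsoc : HasSoc A L) (hsim : IsSimpleGroup L) (hp : ¬ (Nat.card L).Prime)
    (hidx : (MulAut.conj : L →* MulAut L).range.index ≤ 2) (a : ℕ) (l : List (ℕ × ℕ))
    (hN : Nat.card L = 2 ^ a * (l.map fun x => x.1 ^ x.2).prod) (ha : 0 < a)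
    (h1 : ∀ x ∈ l, x.1.Prime ∧ 0 < x.2) (h2 : (2 :: l.map Prod.fst).Nodup)
    {B : ℕ} (hB1 : ubl ((2, a) :: l) ≤ B) (hB2 : ubl ((2, a + 1) :: l) ≤ B) : Nat.card Q ≤ B := by
  have hab : ∀ K : Subgroup Q, K ≤ A → (∀ a ∈ A, ∀ k ∈ K, a * k * a⁻¹ ∈ K) → (∀ a ∈ K, ∀ b ∈ K, a * b = b * a) →
      K = ⊥ := fun K k1 k2 k3 => hsoc.no_abelian hsim (noncomm hsim hp) k1 k2 k3
  rcases cardA hsoc hsim hp hidx with hA | hA
  · refine (card_le_of_list hub hs h hab ((2, a) :: l) ?_ ?_ ?_).trans hB1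
    · intro x hx
      rcases List.mem_cons.1 hx with rfl | hx
      · exact ⟨Nat.prime_two, ha⟩
      · exact h1 x hx
    · rw [List.map_cons]
      exact h2
    · rw [List.map_cons, List.prod_cons, hA, hN]
  · refine (card_le_of_list hub hs h hab ((2, a + 1) :: l) ?_ ?_ ?_).trans hB2
    · intro x hx
      rcases List.mem_cons.1 hx with rfl | hx
      · exact ⟨Nat.prime_two, by omega⟩
      · exact h1 x hx
    · rw [List.map_cons]
      exact h2
    · rw [List.map_cons, List.prod_cons, hA, hN, pow_succ]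
      ring

end Cfsg.Agent.H805.EPT
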