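import Cfsg.Agent.H805.EPT.HeUB
import Cfsg.Agent.H568.EP.Bound
import Cfsg.Agent.H568.EP.Big
import Cfsg.Agent.H914.Uni
import Cfsg.Agent.H812.EP.Ly

/-!
# S3499-V, row `soc(A) = He` (helper805)

`|Q| < 2 ^ 152` leaves `Ω13(3)`, `Ω14±(2)`, `Ω14±(3)`, `Ω16±(2)`; none of the orders is divisible by `7 ^ 3`.
-/

set_option autoImplicit false

namespace Cfsg.Agent.H805.EPT

open Subgroup Cfsg Cfsg.Agent.H284 Cfsg.Agent.H419.EP Cfsg.Agent.H59.EP Cfsg.Agent.OrdDiv Cfsg.Agent.H436
open scoped MatrixGroups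

variable {Q : Type} [Group Q] [Finite Q] {A : Subgroup Q} {Γ : Subgroup (MulAut Q)} {ι : Type} [Fintype ι]
    [DecidableEq ι] {F : Type} [Field F] [Fintype F] {S P : Subgroup (GL ι F)}

/-- `|Q| < 2 ^ 152`: a short list -/
theorem list_of_lt (b : Big A Γ S P) (hQ : Nat.card Q < 2 ^ 152) :
    IsNamed (.oodd 6 3) Q ∨ IsNamed (.oplus 7 2) Q ∨ IsNamed (.ominus 7 2) Q ∨ IsNamed (.oplus 7 3) Q ∨
      IsNamed (.ominus 7 3) Q ∨ IsNamed (.oplus 8 2) Q ∨ IsNamed (.ominus 8 2) Q := by
  have hn := b.thirteen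
  have hF : 2 ≤ Fintype.card F := b.two_le
  rcases b.kind with ⟨-, ho, -, -, -⟩ | ⟨f, hf, -, h3, ho, -, -⟩ | ⟨q, hq, σ, f, -, -, -, ho, -, -⟩ |
    ⟨Qf, hQf, hS, -, -⟩
  · exfalso
    have h1 : 2 ^ 167 ≤ Fintype.card F ^ (Fintype.card ι ^ 2 - 2) :=
      (Nat.pow_le_pow_left hF _).trans (Nat.pow_le_pow_right (by omega) (by
        have : 13 ^ 2 ≤ Fintype.card ι ^ 2 := Nat.pow_le_pow_left hn 2
        omega))
    have h2 : (2 : ℕ) ^ 152 < 2 ^ 167 := by norm_num
    omega
  · exfalso
    have he := H914.even_card_of_symplectic hf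
    have h14 : 14 ≤ Fintype.card ι := by
      rcases he with ⟨m, hm⟩
      omega
    have h1 : 3 ^ 105 ≤ Fintype.card F ^ (Fintype.card ι * (Fintype.card ι + 1) / 2) :=
      (Nat.pow_le_pow_left h3 _).trans (Nat.pow_le_pow_right (by omega) (by
        have : 14 * 15 ≤ Fintype.card ι * (Fintype.card ι + 1) := Nat.mul_le_mul h14 (by omega)
        omega))
    have h2 : 4 * (2 : ℕ) ^ 152 < 3 ^ 105 := by norm_num
    omega
  · exfalso
    have hq2 : 2 ≤ q := by
      by_contra hc
      have : q ^ 2 ≤ 1 ^ 2 := Nat.pow_le_pow_left (by omega) 2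
      omega
    have h1 : 2 ^ 166 ≤ q ^ (Fintype.card ι ^ 2 - 3) :=
      (Nat.pow_le_pow_left hq2 _).trans (Nat.pow_le_pow_right (by omega) (by
        have : 13 ^ 2 ≤ Fintype.card ι ^ 2 := Nat.pow_le_pow_left hn 2
        omega))
    have h2 : (2 : ℕ) ^ 152 < 2 ^ 166 := by norm_num
    omega
  · have hm := b.m
    rw [hS] at hm
    rcases H568.EP.om_named hQf (by omega) hm with ⟨k, hk, h⟩ | ⟨k, hk, h⟩
    · -- odd dimension
      have hb := H568.EP.oodd_ge h
      obtain ⟨-, hodd, -⟩ := h.cond
      have hq3 : 3 ≤ Fintype.card F := by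
        rcases hodd with ⟨m, hm⟩
        omega
      have h6 : k < 7 := by
        by_contra hc
        have h1 : 3 ^ 105 ≤ Fintype.card F ^ (k * (2 * k + 1)) :=
          (Nat.pow_le_pow_left hq3 _).trans (Nat.pow_le_pow_right (by omega) (by
            have : 7 * 15 ≤ k * (2 * k + 1) := Nat.mul_le_mul (by omega) (by omega)
            omega))
        have h2 : 3 * (2 : ℕ) ^ 152 < 3 ^ 105 := by norm_num
        omega
      obtain rfl : k = 6 := by omega
      have h5 : Fintype.card F < 5 := by
        by_contra hc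
        have h1 : 5 ^ 78 ≤ Fintype.card F ^ (6 * (2 * 6 + 1)) := Nat.pow_le_pow_left (by omega) _
        have h2 : 3 * (2 : ℕ) ^ 152 < 5 ^ 78 := by norm_num
        omega
      have h4 : Fintype.card F = 3 := by
        rcases hodd with ⟨m, hm⟩
        omega
      rw [h4] at h
      exact Or.inl h
    · -- even dimension
      have hb : Fintype.card F ^ (k * (2 * k - 1)) ≤ 8 * Nat.card Q := by
        rcases h with h | h
        · exact H568.EP.oplus_ge h
        · exact H568.EP.ominus_ge h
      have hb2 : 2 ∣ Fintype.card F → Fintype.card F ^ (k * (2 * k - 1)) ≤ 2 * Nat.card Q := by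
        intro h2
        rcases h with h | h
        · exact H568.EP.oplus_ge_even h h2
        · exact H568.EP.ominus_ge_even h h2
      have h10 : k < 10 := by
        by_contra hc
        have h1 : 2 ^ 190 ≤ Fintype.card F ^ (k * (2 * k - 1)) :=
          (Nat.pow_le_pow_left hF _).trans (Nat.pow_le_pow_right (by omega) (by
            have : 10 * 19 ≤ k * (2 * k - 1) := Nat.mul_le_mul (by omega) (by omega)
            omega))
        have h2 : 8 * (2 : ℕ) ^ 152 < 2 ^ 190 := by norm_num
        omega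
      have h7 : 7 ≤ k := by omega
      interval_cases k
      · have h5 : Fintype.card F < 4 := by
          by_contra hc
          have h1 : 4 ^ 91 ≤ Fintype.card F ^ (7 * (2 * 7 - 1)) := Nat.pow_le_pow_left (by omega) _
          have h2 : 8 * (2 : ℕ) ^ 152 < 4 ^ 91 := by norm_num
          omega
        rcases (by omega : Fintype.card F = 2 ∨ Fintype.card F = 3) with h4 | h4 <;> rw [h4] at h <;> tauto
      · have h5 : Fintype.card F < 3 := by
          by_contra hc
          have h1 : 3 ^ 120 ≤ Fintype.card F ^ (8 * (2 * 8 - 1)) := Nat.pow_le_pow_left (by omega) _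
          have h2 : 8 * (2 : ℕ) ^ 152 < 3 ^ 120 := by norm_num
          omega
        have h4 : Fintype.card F = 2 := by omega
        rw [h4] at h
        tauto
      · exfalso
        have h5 : Fintype.card F < 3 := by
          by_contra hc
          have h1 : 3 ^ 153 ≤ Fintype.card F ^ (9 * (2 * 9 - 1)) := Nat.pow_le_pow_left (by omega) _
          have h2 : 8 * (2 : ℕ) ^ 152 < 3 ^ 153 := by norm_num
          omega
        have h4 : Fintype.card F = 2 := by omega
        have h6 := hb2 (by rw [h4])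
        rw [h4] at h6
        have h2 : 2 * (2 : ℕ) ^ 152 ≤ 2 ^ (9 * (2 * 9 - 1)) := by norm_num
        omega

/-- **Row `soc(A) = He`** -/
theorem he_false (hub : UBThree) (b : Big A Γ S P) (h : Spor.IsoHe (socle P)) : False := by
  have hd : 343 ∣ Nat.card Q := (by norm_num : 343 ∣ 4030387200).trans (he_dvd b h)
  rcases list_of_lt b (he_ub hub b h) with h | h | h | h | h | h | h <;>
  · rw [h.ord] at hd
    revert hd
    decide +kernel

/-- **Row `soc(A) = He`**, with the proved bound of helper59 -/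
theorem he (hg : TwoGen.{0}) : BigOf (fun L _ => Spor.IsoHe L) := by
  intro Q _ _ A Γ ι _ _ F _ _ S P b h
  have hc := NotCT.Orders.he h
  have hsp : IsSporadicGroup (socle P) := by
    unfold IsSporadicGroup
    tauto
  have hA : Nat.card A ∣ 8060774400 := by
    rcases cardA b.hasSoc b.core.simple (by rw [hc]; norm_num) (H498.SporOut.index_le_two hsp) with h1 | h1
    · rw [h1, hc]; norm_num
    · rw [h1, hc]
  have hQ := H812.EP.card_le hg b [(2, 11), (3, 3), (5, 2), (7, 3), (17, 1)] (by decide +kernel) (by decide +kernel)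
    (N := 8060774400) (by decide +kernel) hA (by norm_num)
  have hQ2 : Nat.card Q < 2 ^ 152 := lt_of_le_of_lt hQ (by decide +kernel)
  have hd : 343 ∣ Nat.card Q := (by norm_num : 343 ∣ 4030387200).trans (he_dvd b h)
  rcases list_of_lt b hQ2 with h | h | h | h | h | h | h <;>
  · rw [h.ord] at hd
    revert hd
    decide +kernel

end Cfsg.Agent.H805.EPT
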