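import Cfsg.Agent.H805.EPT.SporUB
import Cfsg.Agent.H419.EP.Big
import Cfsg.Agent.H498.SporOut
import Cfsg.Agent.NotCT.Orders

/-!
# S3499-V, socle `He`: upper bound and Lagrange (helper805)
-/

set_option autoImplicit false

namespace Cfsg.Agent.H805.EPT

open Subgroup Cfsg Cfsg.Agent.H284 Cfsg.Agent.H419.EP Cfsg.Agent.H59.EP
open scoped MatrixGroups

variable {Q : Type} [Group Q] [Finite Q] {A : Subgroup Q} {Γ : Subgroup (MulAut Q)} {ι : Type} [Fintype ι]
    [DecidableEq ι] {F : Type} [Field F] [Fintype F] {S P : Subgroup (GL ι F)}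

instance finite_socle : Finite (socle P) := by
  haveI : Finite (GL ι F) := inferInstance
  haveI : Finite P := inferInstance
  exact Quotient.finite _

/-- the order of `L` divides the order of `Q` -/
theorem dvd_card (b : Big A Γ S P) : Nat.card (socle P) ∣ Nat.card Q :=
  b.hasSoc.card_dvd.trans (Subgroup.card_subgroup_dvd_card A)

theorem he_ub (hub : UBThree) (b : Big A Γ S P) (h : Spor.IsoHe (socle P)) : Nat.card Q < 2 ^ 152 := by
  have hc := NotCT.Orders.he h
  have hsp : IsSporadicGroup (socle P) := by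
    unfold IsSporadicGroup
    tauto
  refine Nat.lt_of_le_pred (by norm_num) (card_le (B := 2 ^ 152 - 1) hub b.simple b.ept b.hasSoc b.core.simple (by rw [hc]; norm_num) (H498.SporOut.index_le_two hsp) 10
    [(3, 3), (5, 2), (7, 3), (17, 1)] (by rw [hc]; decide +kernel) (by norm_num) (by decide +kernel)
    (by decide +kernel) (by decide +kernel) (by decide +kernel))

theorem he_dvd (b : Big A Γ S P) (h : Spor.IsoHe (socle P)) : 4030387200 ∣ Nat.card Q := by
  rw [← NotCT.Orders.he h]
  exact dvd_card b

end Cfsg.Agent.H805.EPT
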